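import Groth.Agent.Etbc.H203.Newton
import Groth.Agent.S0526
import Mathlib.RingTheory.AdjoinRoot
import Mathlib.RingTheory.OrzechProperty
import Mathlib.RingTheory.Nakayama
import Mathlib.RingTheory.Finiteness.ModuleFinitePresentation

/-!
# Approximation of monogenic algebras over a henselian pair `(S, π)`

If `π ^ c ∈ (f, f')` and `g` is monic of the same degree as the monic `f`, with
`g ≡ f` modulo `π ^ (2 c + 1)`, then `S[X]/(f) ≃ S[X]/(g)`.
-/

set_option autoImplicit false
universe u
open Polynomial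

namespace Groth.Agent.Etbc.H203.Approx

open Groth.Agent.Etbc.H203.Newton

variable {S : Type u} [CommRing S]

theorem henselian_of_finite (π : S) [HenselianRing S (Ideal.span {π})] (C : Type u) [CommRing C]
    [Algebra S C] [Algebra.IsIntegral S C] :
    HenselianRing C (Ideal.span {algebraMap S C π}) := by
  have h := Groth.Agent.S0526.result S (Ideal.span {π}) C
  rwa [Ideal.map_span, Set.image_singleton] at h

theorem isUnit_one_sub_mul {C : Type*} [CommRing C] {ϖ : C} (h : Ideal.span {ϖ} ≤ Ideal.jacobson ⊥)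
    (x : C) : IsUnit (1 - ϖ * x) := by
  refine Groth.Agent.Etalg.HenselNewton.isUnit_of_sub_mem h isUnit_one (z := 1 - ϖ * x) ?_
  rw [show 1 - ϖ * x - 1 = ϖ * (-x) by ring]
  exact Ideal.mul_mem_right _ _ (Ideal.mem_span_singleton_self ϖ)

/-- Existence of a root of `f` in an integral `S`-algebra containing an approximate root. -/
theorem exists_root_of_approx (π : S) [HenselianRing S (Ideal.span {π})] (C : Type u) [CommRing C]
    [Algebra S C] [Algebra.IsIntegral S C] (f u v : S[X]) (c m : ℕ)
    (huv : u * f + v * derivative f = Polynomial.C (π ^ c)) (θ b : C)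
    (hθ : aeval θ f = algebraMap S C π ^ (2 * c + (m + 1)) * b) :
    ∃ y : C, algebraMap S C π ^ (m + 1) ∣ y - θ ∧ aeval y f = 0 := by
  have hC := henselian_of_finite π C
  set ϖ := algebraMap S C π with hϖ
  have h1 : aeval θ v * aeval θ (derivative f) =
      ϖ ^ c * (1 - ϖ * (ϖ ^ (c + m) * aeval θ u * b)) := by
    have h2 := congrArg (aeval θ) huv
    rw [map_add, map_mul, map_mul, aeval_C, map_pow, hθ] at h2
    rw [← hϖ] at h2
    linear_combination h2
  obtain ⟨U, hU⟩ := isUnit_one_sub_mul hC.jac (ϖ ^ (c + m) * aeval θ u * b)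
  have h3 : ϖ ^ c = aeval θ (derivative f) * (aeval θ v * (↑U⁻¹ : C)) := by
    calc ϖ ^ c = ϖ ^ c * (U * (↑U⁻¹ : C)) := by rw [Units.mul_inv, mul_one]
      _ = _ := by rw [← mul_assoc, hU, ← h1]; ring
  have h4 := exists_root_of_dvd (π := ϖ) (f.map (algebraMap S C)) θ (aeval θ v * (↑U⁻¹ : C)) b c m
    (by rw [derivative_map, eval_map_algebraMap]; exact h3)
    (by rw [eval_map_algebraMap]; exact hθ)
  obtain ⟨y, hy, hy0⟩ := h4
  exact ⟨y, hy, by rwa [eval_map_algebraMap] at hy0⟩

/-- The polynomial approximation lemma. -/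
theorem nonempty_algEquiv (π : S) [HenselianRing S (Ideal.span {π})] (f g u v h : S[X]) (c : ℕ)
    (hf : f.Monic) (hg : g.Monic) (hdeg : f.natDegree = g.natDegree)
    (huv : u * f + v * derivative f = C (π ^ c)) (hfg : f - g = C (π ^ (2 * c + 1)) * h) :
    Nonempty (AdjoinRoot f ≃ₐ[S] AdjoinRoot g) := by
  have hSjac : Ideal.span {π} ≤ Ideal.jacobson ⊥ := HenselianRing.jac
  have ff := hf.free_adjoinRoot
  have fg := hg.free_adjoinRoot
  have nf := hf.finite_adjoinRoot
  have ng := hg.finite_adjoinRoot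
  have hint : Algebra.IsIntegral S (AdjoinRoot g) := Algebra.IsIntegral.of_finite S _
  set ϖ := algebraMap S (AdjoinRoot g) π with hϖ
  have h0 : aeval (AdjoinRoot.root g) f = ϖ ^ (2 * c + 1) * aeval (AdjoinRoot.root g) h := by
    have h1 : f = g + C (π ^ (2 * c + 1)) * h := by rw [← hfg]; ring
    rw [h1, map_add, map_mul, aeval_C, AdjoinRoot.aeval_eq, AdjoinRoot.mk_self, zero_add, map_pow]
  obtain ⟨y, hy, hy0⟩ := exists_root_of_approx π (AdjoinRoot g) f u v c 0 huv _ _ h0
  let φ : AdjoinRoot f →ₐ[S] AdjoinRoot g := AdjoinRoot.liftAlgHom f (Algebra.ofId S _) y hy0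
  have hφ : ∀ p : S[X], φ (AdjoinRoot.mk f p) = aeval y p := fun p =>
    AdjoinRoot.liftAlgHom_mk f (Algebra.ofId S _) y hy0 p
  have hsurj : Function.Surjective φ := by
    have htop : (LinearMap.range φ.toLinearMap) = ⊤ := by
      rw [eq_top_iff]
      refine Submodule.le_of_le_smul_of_le_jacobson_bot (I := Ideal.span {π})
        (Module.Finite.fg_top) hSjac ?_
      rintro x -
      obtain ⟨p, rfl⟩ := AdjoinRoot.mk_surjective x
      have h5 : AdjoinRoot.mk g p = aeval y p + (aeval (AdjoinRoot.root g) p - aeval y p) := by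
        rw [AdjoinRoot.aeval_eq]; ring
      rw [h5]
      refine Submodule.add_mem_sup ⟨AdjoinRoot.mk f p, hφ p⟩ ?_
      have h6 : aeval (AdjoinRoot.root g) p - aeval y p ∈ Ideal.span {ϖ} := by
        have h7 : AdjoinRoot.root g - y ∣ aeval (AdjoinRoot.root g) p - aeval y p := by
          rw [← eval_map_algebraMap, ← eval_map_algebraMap]
          exact sub_dvd_eval_sub _ _ _
        refine Ideal.mem_of_dvd _ h7 ?_
        rw [← neg_sub]
        refine neg_mem (Ideal.mem_span_singleton.mpr ?_)
        rwa [zero_add, pow_one] at hy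
      obtain ⟨z, hz⟩ := Ideal.mem_span_singleton'.mp h6
      rw [← hz, mul_comm, hϖ, ← Algebra.smul_def]
      exact Submodule.smul_mem_smul (Ideal.mem_span_singleton_self π) trivial
    exact LinearMap.range_eq_top.mp htop
  let e : AdjoinRoot f ≃ₗ[S] AdjoinRoot g :=
    ((AdjoinRoot.powerBasis' hf).basis.reindex (finCongr (by simpa using hdeg))).equiv
      (AdjoinRoot.powerBasis' hg).basis (Equiv.refl _)
  have hinj : Function.Injective φ := by
    have h8 : Function.Surjective (e.symm.toLinearMap ∘ₗ φ.toLinearMap) :=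
      e.symm.surjective.comp hsurj
    have h9 := OrzechProperty.injective_of_surjective_endomorphism _ h8
    exact Function.Injective.of_comp (f := e.symm) (g := φ) (by simpa using h9)
  exact ⟨AlgEquiv.ofBijective φ ⟨hinj, hsurj⟩⟩

end Groth.Agent.Etbc.H203.Approx
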