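import Groth.Agent.Pi1A.FEtAffine
import Groth.Agent.Pi1C.IdemCrit

/-!
# The idempotent criterion for full faithfulness of base change of finite étale covers, affine case
-/

set_option autoImplicit false
universe u
open CategoryTheory CategoryTheory.Limits AlgebraicGeometry TensorProduct

namespace Groth.Agent.Etbc.H203.IdemAffine

open Groth.Agent.Pi1A.FEtAffine

theorem isIso_appTop {X Y : Scheme.{u}} (f : X ⟶ Y) [IsIso f] : IsIso f.appTop :=
  inferInstanceAs (IsIso (f.app ⊤))

/-- If idempotents of `D` and of `A' ⊗ D` agree for all finite étale `A`-algebras `D`, then base change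
of finite étale covers along `Spec A' → Spec A` is fully faithful. -/
theorem restrict_fullyFaithful (A A' : Type u) [CommRing A] [CommRing A'] [Algebra A A']
    (h1 : ∀ (D : Type u) [CommRing D] [Algebra A D] [Module.Finite A D] [Algebra.Etale A D] (e : D),
      e * e = e → (1 : A') ⊗ₜ[A] e = 0 → e = 0)
    (h2 : ∀ (D : Type u) [CommRing D] [Algebra A D] [Module.Finite A D] [Algebra.Etale A D]
      (e : A' ⊗[A] D), e * e = e → ∃ e' : D, e' * e' = e' ∧ (1 : A') ⊗ₜ[A] e' = e) :
    (FEt.restrict (specMap A A')).Full ∧ (FEt.restrict (specMap A A')).Faithful := by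
  have key : ∀ T : FEt.Cat (Spec (CommRingCat.of A)),
      ∃ (D : Type u) (_ : CommRing D) (_ : Algebra A D) (_ : Module.Finite A D)
        (_ : Algebra.Etale A D) (a : D ≃+* Γ(T.left, ⊤))
        (b : A' ⊗[A] D ≃+* Γ(pullback T.hom (specMap A A'), ⊤)),
        ∀ x : D, (pullback.fst T.hom (specMap A A')).appTop (a x) = b (1 ⊗ₜ x) := by
    intro T
    obtain ⟨D, _, _, _, _, ⟨i⟩⟩ := exists_iso_ofAlgebra T
    let k := ((FEt.restrict (specMap A A')).map i.hom).left ≫ (restrictOfAlgebraIso A A' D).hom.left
    have hk1 : IsIso ((FEt.restrict (specMap A A')).map i.hom).left :=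
      inferInstanceAs (IsIso ((MorphismProperty.Over.forget _ _ _ ⋙ Over.forget _).map
        ((FEt.restrict (specMap A A')).map i.hom)))
    have hk2 : IsIso (restrictOfAlgebraIso A A' D).hom.left :=
      inferInstanceAs (IsIso ((MorphismProperty.Over.forget _ _ _ ⋙ Over.forget _).map
        (restrictOfAlgebraIso A A' D).hom))
    have hi : IsIso i.hom.left :=
      inferInstanceAs (IsIso ((MorphismProperty.Over.forget _ _ _ ⋙ Over.forget _).map i.hom))
    have hk : IsIso k := inferInstance
    have hkw : k ≫ tensorProj A A' D = proj (specMap A A') T ≫ i.hom.left := by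
      simp only [k]
      rw [Category.assoc, restrictOfAlgebraIso_hom_left, map_left_proj]
    have hi' := isIso_appTop i.hom.left
    have hk' := isIso_appTop k
    let a : D ≃+* Γ(T.left, ⊤) :=
      ((Scheme.ΓSpecIso (CommRingCat.of D)).symm ≪≫
        (@asIso _ _ _ _ i.hom.left.appTop hi')).commRingCatIsoToRingEquiv
    let b : A' ⊗[A] D ≃+* Γ(pullback T.hom (specMap A A'), ⊤) :=
      ((Scheme.ΓSpecIso (CommRingCat.of (A' ⊗[A] D))).symm ≪≫
        (@asIso _ _ _ _ k.appTop hk')).commRingCatIsoToRingEquiv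
    refine ⟨D, inferInstance, inferInstance, inferInstance, inferInstance, a, b, ?_⟩
    intro x
    change (pullback.fst T.hom (specMap A A')).appTop
      (i.hom.left.appTop ((Scheme.ΓSpecIso (CommRingCat.of D)).inv x)) =
      k.appTop ((Scheme.ΓSpecIso (CommRingCat.of (A' ⊗[A] D))).inv (1 ⊗ₜ x))
    have h3 : (i.hom.left.appTop ≫ (proj (specMap A A') T).appTop) =
        (tensorProj A A' D).appTop ≫ k.appTop := by
      rw [← Scheme.Hom.comp_appTop, ← Scheme.Hom.comp_appTop, hkw]
    have h4 := Scheme.ΓSpecIso_inv_naturality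
      (CommRingCat.ofHom (Algebra.TensorProduct.includeRight : D →ₐ[A] A' ⊗[A] D).toRingHom)
    have h5 := congr($(h3) ((Scheme.ΓSpecIso (CommRingCat.of D)).inv x))
    have h6 := congr($(h4) x)
    refine h5.trans ?_
    exact congrArg k.appTop h6.symm
  refine Groth.Agent.Pi1C.IdemCrit.restrict_fullyFaithful_of_idem _ ?_ ?_
  · intro T e he he0
    obtain ⟨D, _, _, _, _, a, b, hab⟩ := key T
    obtain ⟨x, rfl⟩ := a.surjective e
    rw [hab, map_eq_zero_iff b b.injective] at he0
    rw [← map_mul] at he
    rw [h1 D x (a.injective he) he0, map_zero]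
  · intro T e he
    obtain ⟨D, _, _, _, _, a, b, hab⟩ := key T
    obtain ⟨y, rfl⟩ := b.surjective e
    rw [← map_mul] at he
    obtain ⟨x, hx, hxy⟩ := h2 D y (b.injective he)
    exact ⟨a x, by rw [← map_mul, hx], by rw [hab, hxy]⟩

end Groth.Agent.Etbc.H203.IdemAffine
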