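import Groth.Agent.Etbc.H203.Idem
import Groth.Agent.Etbc.H203.IdemAffine
import Groth.Agent.S0549
import Mathlib.RingTheory.AdicCompletion.LocalRing
import Mathlib.RingTheory.AdicCompletion.Completeness

/-!
# Finite étale covers of the fraction field of a henselian discrete valuation ring and of the
fraction field of its completion
-/

set_option autoImplicit false
universe u
open CategoryTheory CategoryTheory.Limits AlgebraicGeometry TensorProduct

namespace Groth.Agent.Etbc.H203.Completion

open Groth.Agent.Etbc.H203.Descend Groth.Agent.Pi1A.FEtAffine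

/-- General form: `R → S` discrete valuation rings with common uniformizer `π`, both henselian, `R` dense
in `S`; then base change of finite étale covers from `Frac R` to `Frac S` is an equivalence. -/
theorem restrict_isEquivalence (R S K Kh : Type u) [CommRing R] [IsDomain R]
    [IsDiscreteValuationRing R] [CommRing S] [IsDomain S] [IsDiscreteValuationRing S]
    [Algebra R S] [Field K] [Algebra R K] [IsFractionRing R K]
    [Field Kh] [Algebra S Kh] [IsFractionRing S Kh]
    [Algebra K Kh] [Algebra R Kh] [IsScalarTower R S Kh] [IsScalarTower R K Kh]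
    (π : R) (hπR : Irreducible π) (hπ : Irreducible (algebraMap R S π))
    [HenselianRing R (Ideal.span {π})]
    [HenselianRing S (Ideal.span {algebraMap R S π})] (hd : Dense R S π) :
    (FEt.restrict (specMap K Kh)).IsEquivalence := by
  obtain ⟨h1, h2⟩ := IdemAffine.restrict_fullyFaithful K Kh
    (fun D _ _ _ _ e _ he0 => by
      have hinj : Function.Injective
          (Algebra.TensorProduct.includeRight : D →ₐ[K] Kh ⊗[K] D) :=
        Algebra.TensorProduct.includeRight_injective (algebraMap K Kh).injective
      exact hinj (by simpa using he0))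
    (fun D _ _ _ _ e he => Idem.exists_idem R S K Kh π hπR hπ hd D e he)
  have h3 : (FEt.restrict (specMap K Kh)).EssSurj := by
    rw [restrict_essSurj_iff]
    intro B' _ _ _ _
    exact exists_of_etale R S K Kh π hπ hd B'
  exact { full := h1, faithful := h2, essSurj := h3 }

theorem dense_adicCompletion (R : Type u) [CommRing R] (π : R) :
    Dense R (AdicCompletion (Ideal.span {π}) R) π := by
  intro s n
  obtain ⟨r, hr⟩ := Submodule.mkQ_surjective _ (AdicCompletion.eval (Ideal.span {π}) R n s)
  have h1 : s - algebraMap R _ r ∈ LinearMap.ker (AdicCompletion.eval (Ideal.span {π}) R n) := by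
    rw [LinearMap.mem_ker, map_sub, sub_eq_zero, ← hr]
    exact (AdicCompletion.eval_of (Ideal.span {π}) R n r).symm
  rw [← AdicCompletion.pow_smul_top_eq_ker_eval ⟨{π}, by simp⟩, Ideal.span_singleton_pow,
    Submodule.ideal_span_singleton_smul] at h1
  obtain ⟨t, -, ht⟩ := h1
  refine ⟨r, t, ?_⟩
  rw [← map_pow, ← Algebra.smul_def]
  change π ^ n • t = _ at ht
  rw [ht]
  ring

/-- **Henselian discrete valuation rings.** -/
theorem restrict_isEquivalence_completion (R K Khat : Type u) [CommRing R] [IsDomain R]
    [IsDiscreteValuationRing R] [HenselianLocalRing R] [Field K] [Algebra R K] [IsFractionRing R K]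
    [Field Khat] [Algebra (AdicCompletion (IsLocalRing.maximalIdeal R) R) Khat]
    [IsFractionRing (AdicCompletion (IsLocalRing.maximalIdeal R) R) Khat]
    [Algebra R Khat] [IsScalarTower R (AdicCompletion (IsLocalRing.maximalIdeal R) R) Khat]
    [Algebra K Khat] [IsScalarTower R K Khat] :
    (FEt.restrict (Spec.map (CommRingCat.ofHom (algebraMap K Khat)))).IsEquivalence := by
  obtain ⟨hdom, hdvr⟩ := (Groth.Agent.S0549.result R).mp ⟨inferInstance, inferInstance⟩
  obtain ⟨π, hπ⟩ := IsDiscreteValuationRing.exists_irreducible R
  have hmax : IsLocalRing.maximalIdeal R = Ideal.span {π} := hπ.maximalIdeal_eq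
  have hmaxS : IsLocalRing.maximalIdeal (AdicCompletion (IsLocalRing.maximalIdeal R) R) =
      Ideal.span {algebraMap R (AdicCompletion (IsLocalRing.maximalIdeal R) R) π} := by
    rw [AdicCompletion.maximalIdeal_eq_map]
    refine (congrArg (Ideal.map (algebraMap R (AdicCompletion (IsLocalRing.maximalIdeal R) R)))
      hmax).trans ?_
    rw [Ideal.map_span, Set.image_singleton]
  have hπS : Irreducible (algebraMap R (AdicCompletion (IsLocalRing.maximalIdeal R) R) π) :=
    (IsDiscreteValuationRing.irreducible_iff_uniformizer _).mpr hmaxS
  have hR : HenselianRing R (Ideal.span {π}) := by rw [← hmax]; infer_instance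
  have hS : HenselianRing (AdicCompletion (IsLocalRing.maximalIdeal R) R)
      (Ideal.span {algebraMap R (AdicCompletion (IsLocalRing.maximalIdeal R) R) π}) := by
    rw [← hmaxS]; infer_instance
  have hd : Dense R (AdicCompletion (IsLocalRing.maximalIdeal R) R) π := by
    have := dense_adicCompletion R π
    rwa [← hmax] at this
  exact restrict_isEquivalence R (AdicCompletion (IsLocalRing.maximalIdeal R) R) K Khat π hπ hπS hd

end Groth.Agent.Etbc.H203.Completion
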