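import Mathlib.RingTheory.AdjoinRoot
import Mathlib.RingTheory.TensorProduct.Basic

/-!
# Base change of `AdjoinRoot`
-/

set_option autoImplicit false
universe u v
open Polynomial TensorProduct

namespace Groth.Agent.Etbc.H203.TensorRoot

variable {R : Type u} [CommRing R] (T : Type v) [CommRing T] [Algebra R T] (p : R[X])

/-- `R[X]/(p) → T[X]/(p)`. -/
noncomputable def toMap : AdjoinRoot p →ₐ[R] AdjoinRoot (p.map (algebraMap R T)) :=
  AdjoinRoot.liftAlgHom p (Algebra.ofId R _) (AdjoinRoot.root _) (by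
    have h := AdjoinRoot.eval₂_root (p.map (algebraMap R T))
    rw [eval₂_map] at h
    exact h)

@[simp] theorem toMap_root : toMap T p (AdjoinRoot.root p) = AdjoinRoot.root _ :=
  AdjoinRoot.liftAlgHom_root _ _ _ _

/-- `T[X]/(p) → T ⊗ R[X]/(p)`. -/
noncomputable def ofMap : AdjoinRoot (p.map (algebraMap R T)) →ₐ[T] T ⊗[R] AdjoinRoot p :=
  AdjoinRoot.liftAlgHom _ (Algebra.ofId T _) (1 ⊗ₜ AdjoinRoot.root p) (by
    rw [eval₂_map]
    have h1 : ((Algebra.ofId T (T ⊗[R] AdjoinRoot p)) : T →+* (T ⊗[R] AdjoinRoot p)).comp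
        (algebraMap R T) = algebraMap R (T ⊗[R] AdjoinRoot p) := by
      ext r
      change algebraMap T (T ⊗[R] AdjoinRoot p) (algebraMap R T r) = _
      rw [← IsScalarTower.algebraMap_apply]
    have h2 : aeval (Algebra.TensorProduct.includeRight (R := R) (A := T) (AdjoinRoot.root p)) p = 0 := by
      rw [aeval_algHom_apply, AdjoinRoot.aeval_eq, AdjoinRoot.mk_self, map_zero]
    rw [aeval_def] at h2
    rw [← h2, ← h1]
    rfl)

@[simp] theorem ofMap_root : ofMap T p (AdjoinRoot.root _) = 1 ⊗ₜ AdjoinRoot.root p :=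
  AdjoinRoot.liftAlgHom_root _ _ _ _

/-- Base change of `AdjoinRoot`. -/
noncomputable def tensorEquiv :
    T ⊗[R] AdjoinRoot p ≃ₐ[T] AdjoinRoot (p.map (algebraMap R T)) :=
  AlgEquiv.ofAlgHom
    (Algebra.TensorProduct.lift (Algebra.ofId T _) (toMap T p) (fun _ _ => .all _ _))
    (ofMap T p)
    (by
      apply AdjoinRoot.algHom_ext
      simp)
    (by
      apply Algebra.TensorProduct.ext
      · ext
      · apply AdjoinRoot.algHom_ext
        simp)

@[simp] theorem tensorEquiv_tmul_root (t : T) :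
    tensorEquiv T p (t ⊗ₜ AdjoinRoot.root p) = algebraMap T _ t * AdjoinRoot.root _ := by
  simp [tensorEquiv, Algebra.ofId_apply]

end Groth.Agent.Etbc.H203.TensorRoot
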