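import Groth.Agent.Etbc.H203.Approx
import Groth.Agent.Etbc.H203.TensorRoot
import Mathlib.RingTheory.Etale.Descent
import Mathlib.RingTheory.Etale.Field
import Mathlib.RingTheory.TensorProduct.Pi
import Mathlib.RingTheory.DiscreteValuationRing.Basic
import Mathlib.FieldTheory.Minpoly.IsIntegrallyClosed
import Mathlib.FieldTheory.PrimitiveElement
import Mathlib.RingTheory.Localization.Integral

/-!
# Descent of finite étale algebras from the fraction field of a complete discrete valuation ring

`R → S` with `S` a discrete valuation ring with uniformizer (the image of) `π`, henselian at `π`, and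
`R` dense in `S` for the `π`-adic topology. Then every finite étale algebra over `Frac S` comes from
the fraction field of `R`.
-/

set_option autoImplicit false
universe u
open Polynomial TensorProduct

namespace Groth.Agent.Etbc.H203.Descend

open Groth.Agent.Etbc.H203.Approx Groth.Agent.Etbc.H203.TensorRoot

/-- density of `R` in `S` for the `π`-adic topology -/
def Dense (R S : Type u) [CommRing R] [CommRing S] [Algebra R S] (π : R) : Prop :=
  ∀ (s : S) (n : ℕ), ∃ (r : R) (t : S), s = algebraMap R S r + algebraMap R S π ^ n * t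

theorem exists_monic_approx {R S : Type u} [CommRing R] [CommRing S] [Nontrivial S] [Algebra R S] (π : R)
    (hd : Dense R S π) (f : S[X]) (hf : f.Monic) (N : ℕ) :
    ∃ (g : R[X]) (h : S[X]), g.Monic ∧ (g.map (algebraMap R S)).natDegree = f.natDegree ∧
      f - g.map (algebraMap R S) = C (algebraMap R S π ^ N) * h := by
  choose r t hrt using fun i : ℕ => hd (f.coeff i) N
  set n := f.natDegree with hn
  have : Nontrivial R := (algebraMap R S).domain_nontrivial
  let g₀ : R[X] := ∑ i ∈ Finset.range n, C (r i) * X ^ i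
  have hdeg₀ : g₀.degree < (n : WithBot ℕ) := by
    refine (degree_lt_iff_coeff_zero _ _).mpr fun m hm => ?_
    rw [finsetSum_coeff]
    refine Finset.sum_eq_zero fun i hi => ?_
    rw [coeff_C_mul, coeff_X_pow, if_neg, mul_zero]
    have := Finset.mem_range.mp hi
    omega
  have hmon : (X ^ n + g₀).Monic := monic_X_pow_add hdeg₀
  refine ⟨X ^ n + g₀, ∑ i ∈ Finset.range n, C (t i) * X ^ i, hmon, ?_, ?_⟩
  · rw [hmon.natDegree_map]
    have h1 : g₀.degree < ((X : R[X]) ^ n).degree := by rwa [degree_X_pow]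
    have h2 := degree_add_eq_left_of_degree_lt h1
    rw [degree_X_pow] at h2
    exact natDegree_eq_of_degree_eq_some h2
  · have h1 := hf.as_sum
    rw [← hn] at h1
    conv_lhs => rw [h1]
    simp only [g₀, Polynomial.map_add, Polynomial.map_pow, map_X, Polynomial.map_sum,
      Polynomial.map_mul, map_C]
    rw [add_sub_add_left_eq_sub, ← Finset.sum_sub_distrib, Finset.mul_sum]
    refine Finset.sum_congr rfl fun i _ => ?_
    rw [← sub_mul, ← C_sub, ← mul_assoc, ← C_mul]
    congr 2
    conv_lhs => rw [hrt i]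
    ring

/-- clearing denominators in a Bézout relation -/
theorem exists_bezout (S Kh : Type u) [CommRing S] [IsDomain S] [IsDiscreteValuationRing S] [Field Kh]
    [Algebra S Kh] [IsFractionRing S Kh] {ϖ : S} (hϖ : Irreducible ϖ) (f : S[X])
    (hf : (f.map (algebraMap S Kh)).Separable) :
    ∃ (u v : S[X]) (c : ℕ), u * f + v * derivative f = C (ϖ ^ c) := by
  obtain ⟨u', v', h⟩ := hf
  obtain ⟨b, hbm, hb⟩ := IsLocalization.integerNormalization_spec (nonZeroDivisors S) u'
  obtain ⟨d, hdm, hd⟩ := IsLocalization.integerNormalization_spec (nonZeroDivisors S) v'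
  set U := IsLocalization.integerNormalization (nonZeroDivisors S) u'
  set V := IsLocalization.integerNormalization (nonZeroDivisors S) v'
  have hb0 : b ≠ 0 := nonZeroDivisors.ne_zero hbm
  have hd0 : d ≠ 0 := nonZeroDivisors.ne_zero hdm
  have h1 : (C d * U) * f + (C b * V) * derivative f = C (b * d) := by
    apply map_injective (algebraMap S Kh) (IsFractionRing.injective S Kh)
    simp only [Polynomial.map_add, Polynomial.map_mul, map_C, hb, hd]
    rw [derivative_map] at h
    rw [Algebra.smul_def, Algebra.smul_def]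
    have h2 : ∀ s : S, (algebraMap S Kh[X]) s = C (algebraMap S Kh s) := fun s => rfl
    rw [h2, h2, map_mul (algebraMap S Kh), C_mul]
    linear_combination (C (algebraMap S Kh b) * C (algebraMap S Kh d)) * h
  obtain ⟨c, w, hw⟩ := IsDiscreteValuationRing.eq_unit_mul_pow_irreducible (mul_ne_zero hb0 hd0) hϖ
  refine ⟨C (↑w⁻¹ : S) * (C d * U), C (↑w⁻¹ : S) * (C b * V), c, ?_⟩
  calc _ = C (↑w⁻¹ : S) * ((C d * U) * f + (C b * V) * derivative f) := by ring
    _ = _ := by rw [h1, hw, ← C_mul, ← mul_assoc, Units.inv_mul, one_mul]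

section

variable (R S K Kh : Type u) [CommRing R] [CommRing S] [IsDomain S] [IsDiscreteValuationRing S]
  [Algebra R S] [Field K] [Algebra R K] [Field Kh] [Algebra S Kh] [IsFractionRing S Kh]
  [Algebra K Kh] [Algebra R Kh] [IsScalarTower R S Kh] [IsScalarTower R K Kh]

/-- Finite separable field extensions of `Frac S` come from `K`. -/
theorem exists_of_field (π : R) (hπ : Irreducible (algebraMap R S π))
    [HenselianRing S (Ideal.span {algebraMap R S π})] (hd : Dense R S π)
    (L : Type u) [Field L] [Algebra Kh L] [FiniteDimensional Kh L] [Algebra.IsSeparable Kh L] :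
    ∃ g : R[X], g.Monic ∧ Nonempty (Kh ⊗[K] AdjoinRoot (g.map (algebraMap R K)) ≃ₐ[Kh] L) := by
  let _ : Algebra S L := Algebra.compHom L (algebraMap S Kh)
  have : IsScalarTower S Kh L := IsScalarTower.of_algebraMap_eq fun _ => rfl
  obtain ⟨α, hα⟩ := Field.exists_primitive_element Kh L
  have hαalg : IsAlgebraic S α := by
    have h1 : IsAlgebraic Kh α := Algebra.IsAlgebraic.isAlgebraic α
    exact (IsFractionRing.isAlgebraic_iff S Kh L).mpr h1
  obtain ⟨s, hs, hint⟩ := hαalg.exists_integral_multiple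
  set β := s • α with hβ
  have hs' : algebraMap S Kh s ≠ 0 := by
    rw [Ne, IsFractionRing.to_map_eq_zero_iff]; exact hs
  have htop : IntermediateField.adjoin Kh {β} = ⊤ := by
    rw [eq_top_iff, ← hα, IntermediateField.adjoin_simple_le_iff]
    have h2 : α = (algebraMap S Kh s)⁻¹ • β := by
      rw [hβ, ← algebraMap_smul Kh s α, smul_smul, inv_mul_cancel₀ hs', one_smul]
    rw [h2]
    exact (IntermediateField.adjoin Kh {β}).smul_mem
      (IntermediateField.mem_adjoin_simple_self Kh β)
  have : FaithfulSMul S L := by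
    rw [faithfulSMul_iff_algebraMap_injective, IsScalarTower.algebraMap_eq S Kh L]
    exact (algebraMap Kh L).injective.comp (IsFractionRing.injective S Kh)
  have : Module.IsTorsionFree S L := inferInstance
  set f := minpoly S β with hfdef
  have hf : f.Monic := minpoly.monic hint
  have hmin : minpoly Kh β = f.map (algebraMap S Kh) :=
    minpoly.isIntegrallyClosed_eq_field_fractions' Kh hint
  have hβint : IsIntegral Kh β := Algebra.IsIntegral.isIntegral β
  have hsep : (f.map (algebraMap S Kh)).Separable := by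
    rw [← hmin]; exact Algebra.IsSeparable.isSeparable Kh β
  obtain ⟨u, v, c, huv⟩ := exists_bezout S Kh hπ f hsep
  obtain ⟨g, h, hg, hdeg, hfg⟩ := exists_monic_approx (R := R) π hd f hf (2 * c + 1)
  obtain ⟨e⟩ := nonempty_algEquiv (algebraMap R S π) f (g.map (algebraMap R S)) u v h c hf
    (hg.map _) hdeg.symm huv hfg
  refine ⟨g, hg, ⟨?_⟩⟩
  have e1 : Kh ⊗[K] AdjoinRoot (g.map (algebraMap R K)) ≃ₐ[Kh]
      AdjoinRoot ((g.map (algebraMap R K)).map (algebraMap K Kh)) := tensorEquiv Kh _
  have h3 : (g.map (algebraMap R K)).map (algebraMap K Kh) =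
      (g.map (algebraMap R S)).map (algebraMap S Kh) := by
    rw [Polynomial.map_map, Polynomial.map_map, ← IsScalarTower.algebraMap_eq, ← IsScalarTower.algebraMap_eq]
  have e2 : AdjoinRoot ((g.map (algebraMap R K)).map (algebraMap K Kh)) ≃ₐ[Kh]
      AdjoinRoot ((g.map (algebraMap R S)).map (algebraMap S Kh)) :=
    AdjoinRoot.algEquivOfEq Kh _ _ h3
  have e3 : Kh ⊗[S] AdjoinRoot (g.map (algebraMap R S)) ≃ₐ[Kh]
      AdjoinRoot ((g.map (algebraMap R S)).map (algebraMap S Kh)) := tensorEquiv Kh _
  have e4 : Kh ⊗[S] AdjoinRoot f ≃ₐ[Kh] Kh ⊗[S] AdjoinRoot (g.map (algebraMap R S)) :=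
    Algebra.TensorProduct.congr AlgEquiv.refl e
  have e5 : Kh ⊗[S] AdjoinRoot f ≃ₐ[Kh] AdjoinRoot (f.map (algebraMap S Kh)) := tensorEquiv Kh _
  have e6 : AdjoinRoot (f.map (algebraMap S Kh)) ≃ₐ[Kh] AdjoinRoot (minpoly Kh β) :=
    AdjoinRoot.algEquivOfEq Kh _ _ hmin.symm
  have e7 : AdjoinRoot (minpoly Kh β) ≃ₐ[Kh] IntermediateField.adjoin Kh {β} :=
    IntermediateField.adjoinRootEquivAdjoin Kh hβint
  have e8 : IntermediateField.adjoin Kh {β} ≃ₐ[Kh] L :=
    (IntermediateField.equivOfEq htop).trans IntermediateField.topEquiv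
  exact e1.trans (e2.trans (e3.symm.trans (e4.symm.trans (e5.trans (e6.trans (e7.trans e8))))))

/-- Finite étale algebras over `Frac S` come from `K`. -/
theorem exists_of_etale (π : R) (hπ : Irreducible (algebraMap R S π))
    [HenselianRing S (Ideal.span {algebraMap R S π})] (hd : Dense R S π)
    (B' : Type u) [CommRing B'] [Algebra Kh B'] [Module.Finite Kh B'] [Algebra.Etale Kh B'] :
    ∃ (B : Type u) (_ : CommRing B) (_ : Algebra K B) (_ : Module.Finite K B)
      (_ : Algebra.Etale K B), Nonempty (Kh ⊗[K] B ≃ₐ[Kh] B') := by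
  classical
  obtain ⟨I, hI, L, i1, i2, e, hL⟩ := (Algebra.Etale.iff_exists_algEquiv_prod Kh B').mp inferInstance
  have : Fintype I := Fintype.ofFinite I
  have hL1 : ∀ i, Module.Finite Kh (L i) := fun i => (hL i).1
  have hL2 : ∀ i, Algebra.IsSeparable Kh (L i) := fun i => (hL i).2
  choose g hg e' using fun i => exists_of_field R S K Kh π hπ hd (L i)
  let B : Type u := ∀ i, AdjoinRoot ((g i).map (algebraMap R K))
  have hfin : ∀ i, Module.Finite K (AdjoinRoot ((g i).map (algebraMap R K))) := fun i =>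
    ((hg i).map _).finite_adjoinRoot
  have hfinB : Module.Finite K B := Module.Finite.pi
  have e1 : Kh ⊗[K] B ≃ₐ[Kh] (∀ i, Kh ⊗[K] AdjoinRoot ((g i).map (algebraMap R K))) :=
    Algebra.TensorProduct.piRight K Kh Kh _
  have e2 : (∀ i, Kh ⊗[K] AdjoinRoot ((g i).map (algebraMap R K))) ≃ₐ[Kh] (∀ i, L i) :=
    AlgEquiv.piCongrRight fun i => (e' i).some
  have e3 : Kh ⊗[K] B ≃ₐ[Kh] B' := e1.trans (e2.trans e.symm)
  have hE : Algebra.Etale Kh (Kh ⊗[K] B) := Algebra.Etale.of_equiv e3.symm
  exact ⟨B, inferInstance, inferInstance, hfinB,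
    Algebra.Etale.of_etale_tensorProduct_of_faithfullyFlat Kh, ⟨e3⟩⟩

end

end Groth.Agent.Etbc.H203.Descend
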