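import Mathlib.RingTheory.Algebraic.Integral
import Mathlib.RingTheory.Adjoin.FG
import Mathlib.LinearAlgebra.FreeModule.PID
import Mathlib.RingTheory.Localization.FractionRing
import Mathlib.RingTheory.Localization.Module
import Mathlib.LinearAlgebra.TensorProduct.Basis

/-!
# Orders in finite algebras over the fraction field of a principal ideal domain
-/

set_option autoImplicit false
universe u
open TensorProduct

namespace Groth.Agent.Etbc.H203.Order

/-- A finite algebra `D` over `K = Frac R`, `R` a PID, contains an `R`-order `B`, and an `R`-basis of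
`B` is a `K`-basis of `D`. -/
theorem exists_order (R K D : Type u) [CommRing R] [IsDomain R] [IsPrincipalIdealRing R] [Field K]
    [Algebra R K] [IsFractionRing R K] [CommRing D] [Algebra K D] [Algebra R D] [IsScalarTower R K D]
    [Module.Finite K D] :
    ∃ (B : Subalgebra R D) (_ : Module.Finite R B) (n : ℕ) (b : Module.Basis (Fin n) R B)
      (b' : Module.Basis (Fin n) K D), ∀ i, b' i = (b i : D) := by
  classical
  have htf : Module.IsTorsionFree R D := by
    have h1 : Module.IsTorsionFree K D := inferInstance
    exact Module.IsTorsionFree.trans_faithfulSMul R K D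
  obtain ⟨s, hs⟩ := Module.Finite.fg_top (R := K) (M := D)
  have halg1 : Algebra.IsAlgebraic R K := IsLocalization.isAlgebraic K (nonZeroDivisors R)
  have halg : Algebra.IsAlgebraic R D := Algebra.IsAlgebraic.trans R K D
  obtain ⟨y, hy, hint⟩ := Algebra.IsAlgebraic.exists_integral_multiples R s
  let s' : Finset D := s.image (fun x => y • x)
  let B : Subalgebra R D := Algebra.adjoin R (s' : Set D)
  have hBfg : (Subalgebra.toSubmodule B).FG := by
    refine fg_adjoin_of_finite s'.finite_toSet ?_
    intro x hx
    obtain ⟨z, hz, rfl⟩ := Finset.mem_image.mp (Finset.mem_coe.mp hx)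
    exact hint z hz
  have hBfin : Module.Finite R B := ⟨(Submodule.fg_top _).mpr hBfg⟩
  have htfB : Module.IsTorsionFree R B := inferInstance
  have hfree : Module.Free R B := inferInstance
  let b : Module.Basis (Fin (Module.finrank R B)) R B := Module.finBasis R B
  have hli : LinearIndependent R (fun i => (b i : D)) :=
    b.linearIndependent.map' B.val.toLinearMap (LinearMap.ker_eq_bot.mpr Subtype.val_injective)
  have hli' : LinearIndependent K (fun i => (b i : D)) :=
    (LinearIndependent.iff_fractionRing (R := R) (K := K)).mp hli
  have hspan : ⊤ ≤ Submodule.span K (Set.range (fun i => (b i : D))) := by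
    rw [← hs, Submodule.span_le]
    intro x hx
    have h1 : y • x ∈ B := Algebra.subset_adjoin (Finset.mem_coe.mpr (Finset.mem_image_of_mem _ hx))
    have h2 : y • x ∈ Submodule.span K (Set.range (fun i => (b i : D))) := by
      have h3 := b.sum_repr ⟨y • x, h1⟩
      have h4 := congrArg (fun z : B => (z : D)) h3
      simp only at h4
      rw [← h4]
      rw [AddSubmonoidClass.coe_finsetSum]
      refine Submodule.sum_mem _ fun i _ => ?_
      rw [Subalgebra.coe_smul, ← algebraMap_smul K]
      exact Submodule.smul_mem _ _ (Submodule.subset_span ⟨i, rfl⟩)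
    have hy' : algebraMap R K y ≠ 0 := by
      rw [Ne, IsFractionRing.to_map_eq_zero_iff]; exact hy
    have h5 : x = (algebraMap R K y)⁻¹ • (y • x) := by
      rw [← algebraMap_smul K y x, smul_smul, inv_mul_cancel₀ hy', one_smul]
    rw [h5]
    exact Submodule.smul_mem _ _ h2
  exact ⟨B, hBfin, _, b, Module.Basis.mk hli' hspan, fun i => by simp⟩

end Groth.Agent.Etbc.H203.Order
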