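import Groth.Agent.Etbc.H203.Descend
import Groth.Agent.Etbc.H203.Order

/-!
# Idempotents of `Frac S ⊗_K D` for a finite algebra `D` over `K = Frac R`

`R → S` discrete valuation rings with common uniformizer `π`, henselian at `π`, `R` dense in `S`.
-/

set_option autoImplicit false
universe u
open Polynomial TensorProduct

namespace Groth.Agent.Etbc.H203.Idem

open Groth.Agent.Etbc.H203.Approx Groth.Agent.Etbc.H203.Descend

theorem dvd_of_map_dvd {R S : Type u} [CommRing R] [IsDomain R] [IsDiscreteValuationRing R]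
    [CommRing S] [IsDomain S] [IsDiscreteValuationRing S] [Algebra R S] {π : R} (hπR : Irreducible π)
    (hπ : Irreducible (algebraMap R S π)) (n : ℕ) (r : R)
    (h : algebraMap R S π ^ n ∣ algebraMap R S r) : π ^ n ∣ r := by
  by_cases hr : r = 0
  · rw [hr]; exact dvd_zero _
  obtain ⟨m, w, rfl⟩ := IsDiscreteValuationRing.eq_unit_mul_pow_irreducible hr hπR
  refine Dvd.dvd.mul_left (pow_dvd_pow π ?_) _
  rw [map_mul, map_pow] at h
  have h1 : algebraMap R S π ^ n ∣ algebraMap R S π ^ m := by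
    exact ((w.isUnit.map (algebraMap R S)).dvd_mul_left).mp h
  exact (pow_dvd_pow_iff hπ.ne_zero hπ.not_isUnit).mp h1

section Basis

variable {R S : Type u} [CommRing R] [CommRing S] [Algebra R S] {B : Type u} [CommRing B]
  [Algebra R B] {n : ℕ} (b : Module.Basis (Fin n) R B)

include b in
theorem exists_approx_tensor (π : R) (hd : Dense R S π) (t : S ⊗[R] B) (N : ℕ) :
    ∃ (θ : B) (z : S ⊗[R] B), t = 1 ⊗ₜ θ + algebraMap R S π ^ N • z := by
  choose r s hrs using fun i => hd ((b.baseChange S).repr t i) N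
  refine ⟨∑ i, r i • b i, ∑ i, s i • (b.baseChange S) i, ?_⟩
  rw [TensorProduct.tmul_sum, Finset.smul_sum, ← Finset.sum_add_distrib]
  conv_lhs => rw [← (b.baseChange S).sum_repr t]
  refine Finset.sum_congr rfl fun i _ => ?_
  rw [hrs i, add_smul, mul_smul, Module.Basis.baseChange_apply, TensorProduct.tmul_smul,
    algebraMap_smul]

include b in
theorem dvd_of_tmul_dvd {π : R} (N : ℕ)
    (hdiv : ∀ r : R, algebraMap R S π ^ N ∣ algebraMap R S r → π ^ N ∣ r) (x : B) (z : S ⊗[R] B)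
    (h : (1 : S) ⊗ₜ[R] x = algebraMap R S π ^ N • z) : algebraMap R B π ^ N ∣ x := by
  have h1 : ∀ i, algebraMap R S (b.repr x i) = algebraMap R S π ^ N * (b.baseChange S).repr z i := by
    intro i
    have h2 := congrArg (fun y => (b.baseChange S).repr y i) h
    simp only [Module.Basis.baseChange_repr_tmul, map_smul, Finsupp.smul_apply, smul_eq_mul] at h2
    rw [← h2, Algebra.smul_def, mul_one]
  choose c hc using fun i => hdiv (b.repr x i) ⟨_, h1 i⟩
  refine ⟨∑ i, c i • b i, ?_⟩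
  rw [← map_pow, ← Algebra.smul_def, Finset.smul_sum]
  conv_lhs => rw [← b.sum_repr x]
  refine Finset.sum_congr rfl fun i _ => ?_
  rw [hc i, mul_smul]

end Basis

theorem sub_eq_zero_of_idem {T : Type*} [CommRing T] {a e : T} (ha : a * a = a) (he : e * e = e)
    (h : IsUnit (1 - (a - e) * (a - e))) : a = e := by
  have h1 : (1 - (a - e) * (a - e)) * (a - e) = 0 := by
    linear_combination (-a + 3 * e - 1) * ha + (-3 * a + e + 1) * he
  exact sub_eq_zero.mp ((h.mul_right_eq_zero).mp h1)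

/-- The root of `X ^ 2 - π ^ k X` near an approximate root. -/
theorem exists_root_quadratic {R B : Type u} [CommRing R] [CommRing B] [Algebra R B]
    [Algebra.IsIntegral R B] (π : R) [HenselianRing R (Ideal.span {π})] (k : ℕ) (θ b : B)
    (h : θ * θ - algebraMap R B π ^ k * θ = algebraMap R B π ^ (2 * (2 * k) + (k + 1)) * b) :
    ∃ y : B, algebraMap R B π ^ (k + 1) ∣ y - θ ∧ y * y = algebraMap R B π ^ k * y := by
  let f : R[X] := X ^ 2 - C (π ^ k) * X
  have hf' : derivative f = C 2 * X - C (π ^ k) := by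
    simp only [f, derivative_sub, derivative_X_pow, derivative_C_mul, derivative_X]
    norm_num
  have huv : (C (-4)) * f + (C 2 * X - C (π ^ k)) * derivative f = C (π ^ (2 * k)) := by
    rw [hf']
    simp only [f]
    have h2 : (C 2 : R[X]) = 2 := map_ofNat C 2
    have h4 : (C (-4) : R[X]) = -4 := by rw [C_neg]; exact congrArg Neg.neg (map_ofNat C 4)
    rw [h4, h2, mul_comm 2 k, pow_mul, C_pow (a := π ^ k)]
    ring
  have hev : ∀ z : B, aeval z f = z * z - algebraMap R B π ^ k * z := by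
    intro z
    simp [f, sq]
  obtain ⟨y, hy, hy0⟩ := exists_root_of_approx π B f _ _ (2 * k) k huv θ b (by rw [hev, h])
  exact ⟨y, hy, by rw [hev] at hy0; exact sub_eq_zero.mp hy0⟩

section Main

variable (R S K Kh : Type u) [CommRing R] [IsDomain R] [IsDiscreteValuationRing R]
  [CommRing S] [IsDomain S] [IsDiscreteValuationRing S]
  [Algebra R S] [Field K] [Algebra R K] [IsFractionRing R K]
  [Field Kh] [Algebra S Kh] [IsFractionRing S Kh]
  [Algebra K Kh] [Algebra R Kh] [IsScalarTower R S Kh] [IsScalarTower R K Kh]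

/-- **Idempotents descend** from `Frac S ⊗ D` to `D`. -/
theorem exists_idem (π : R) (hπR : Irreducible π) (hπ : Irreducible (algebraMap R S π))
    [HenselianRing R (Ideal.span {π})]
    [HenselianRing S (Ideal.span {algebraMap R S π})] (hd : Dense R S π)
    (D : Type u) [CommRing D] [Algebra K D] [Module.Finite K D] (e : Kh ⊗[K] D) (he : e * e = e) :
    ∃ e' : D, e' * e' = e' ∧ (1 : Kh) ⊗ₜ[K] e' = e := by
  classical
  let _ : Algebra R D := Algebra.compHom D (algebraMap R K)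
  have : IsScalarTower R K D := IsScalarTower.of_algebraMap_eq fun _ => rfl
  obtain ⟨B, hBfin, n, b, b', hbb'⟩ := Order.exists_order R K D
  have hBint : Algebra.IsIntegral R B := Algebra.IsIntegral.of_finite R B
  have hTint : Algebra.IsIntegral S (S ⊗[R] B) := Algebra.IsIntegral.of_finite S _
  set ϖ : S := algebraMap R S π with hϖ
  -- the comparison map
  let jB : B →ₐ[R] Kh ⊗[K] D :=
    ((Algebra.TensorProduct.includeRight : D →ₐ[K] Kh ⊗[K] D).restrictScalars R).comp B.val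
  let j : S ⊗[R] B →ₐ[S] Kh ⊗[K] D :=
    Algebra.TensorProduct.lift (Algebra.ofId S (Kh ⊗[K] D)) jB (fun _ _ => .all _ _)
  have hj : ∀ (s : S) (x : B), j (s ⊗ₜ x) = (algebraMap S Kh s) ⊗ₜ[K] (x : D) := by
    intro s x
    change algebraMap S (Kh ⊗[K] D) s * (1 : Kh) ⊗ₜ[K] (x : D) = _
    rw [Algebra.TensorProduct.algebraMap_apply, Algebra.TensorProduct.tmul_mul_tmul, mul_one, one_mul]
  let bT : Module.Basis (Fin n) S (S ⊗[R] B) := b.baseChange S
  let bD : Module.Basis (Fin n) Kh (Kh ⊗[K] D) := b'.baseChange Kh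
  have hjb : ∀ i, j (bT i) = bD i := by
    intro i
    rw [Module.Basis.baseChange_apply, Module.Basis.baseChange_apply, hj, map_one, hbb']
  have hjs : ∀ c : Fin n → S, j (∑ i, c i • bT i) = ∑ i, algebraMap S Kh (c i) • bD i := by
    intro c
    rw [map_sum]
    refine Finset.sum_congr rfl fun i _ => ?_
    rw [map_smul, hjb, algebraMap_smul]
  have hjinj : Function.Injective j := by
    rw [injective_iff_map_eq_zero]
    intro t ht
    rw [← bT.sum_repr t, hjs] at ht
    have h1 := (Fintype.linearIndependent_iff.mp bD.linearIndependent) _ ht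
    rw [← bT.sum_repr t]
    refine Finset.sum_eq_zero fun i _ => ?_
    have h2 : bT.repr t i = 0 := (IsFractionRing.to_map_eq_zero_iff (K := Kh)).mp (h1 i)
    rw [h2, zero_smul]
  -- a multiple of `e` lies in `S ⊗ B`
  obtain ⟨k, t, ht⟩ : ∃ (k : ℕ) (t : S ⊗[R] B), j t = algebraMap S Kh ϖ ^ k • e := by
    obtain ⟨d, hdint⟩ := IsLocalization.exist_integer_multiples_of_finite (nonZeroDivisors S)
      (fun i => bD.repr e i)
    choose c hc using hdint
    have hd0 : (d : S) ≠ 0 := nonZeroDivisors.ne_zero d.2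
    obtain ⟨k, w, hw⟩ := IsDiscreteValuationRing.eq_unit_mul_pow_irreducible hd0 hπ
    refine ⟨k, ∑ i, ((↑w⁻¹ : S) * c i) • bT i, ?_⟩
    rw [hjs]
    conv_rhs => rw [← bD.sum_repr e]
    rw [Finset.smul_sum]
    refine Finset.sum_congr rfl fun i _ => ?_
    rw [smul_smul]
    congr 1
    have h1 : algebraMap S Kh (c i) = algebraMap S Kh d * bD.repr e i := by
      rw [hc i, ← algebraMap_smul Kh (d : S), smul_eq_mul]
    rw [map_mul, h1, hw, map_mul, ← mul_assoc, ← mul_assoc, ← map_mul, Units.inv_mul, map_one,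
      one_mul, map_pow]
  have hT := henselian_of_finite ϖ (S ⊗[R] B)
  set ϖT : S ⊗[R] B := algebraMap S (S ⊗[R] B) ϖ with hϖT
  have hjϖ : ∀ (m : ℕ) (z : S ⊗[R] B), j (ϖT ^ m * z) = algebraMap S Kh ϖ ^ m • j z := by
    intro m z
    rw [hϖT, ← map_pow, ← Algebra.smul_def, map_smul, ← map_pow (algebraMap S Kh),
      algebraMap_smul Kh (ϖ ^ m) (j z)]
  have htt : t * t = ϖT ^ k * t := by
    apply hjinj
    rw [map_mul, hjϖ, ht, smul_mul_smul_comm, he, smul_smul]
  -- approximate by `θ ∈ B`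
  obtain ⟨θ, z, hθ⟩ := exists_approx_tensor b π hd t (2 * (2 * k) + (k + 1))
  set N := 2 * (2 * k) + (k + 1) with hN
  have hθ' : (1 : S) ⊗ₜ[R] θ = t - ϖT ^ N * z := by
    rw [hθ, Algebra.smul_def, map_pow]; ring
  have hone : ∀ x : B, (1 : S) ⊗ₜ[R] (algebraMap R B π ^ k * x) = ϖT ^ k * (1 ⊗ₜ[R] x) := by
    intro x
    rw [← map_pow, ← Algebra.smul_def, hϖT, ← map_pow, ← Algebra.smul_def, hϖ, ← map_pow,
      TensorProduct.tmul_smul, algebraMap_smul]
  have hq : (1 : S) ⊗ₜ[R] (θ * θ - algebraMap R B π ^ k * θ) = ϖ ^ N •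
      (-2 * t * z + ϖT ^ N * z * z + ϖT ^ k * z) := by
    have hm : (1 : S) ⊗ₜ[R] (θ * θ) = ((1 : S) ⊗ₜ[R] θ) * ((1 : S) ⊗ₜ[R] θ) := by
      rw [Algebra.TensorProduct.tmul_mul_tmul, mul_one]
    have hsm : ∀ (m : ℕ) (x : S ⊗[R] B), ϖ ^ m • x = ϖT ^ m * x := by
      intro m x
      rw [hϖT, ← map_pow (algebraMap S (S ⊗[R] B))]
      exact Algebra.smul_def (R := S) (A := S ⊗[R] B) (ϖ ^ m) x
    rw [TensorProduct.tmul_sub, hone, hm, hθ', hsm]
    linear_combination htt
  obtain ⟨q, hq'⟩ := dvd_of_tmul_dvd b (S := S) N (dvd_of_map_dvd hπR hπ N) _ _ hq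
  obtain ⟨y, ⟨x, hyx⟩, hyy⟩ := exists_root_quadratic π k θ q hq'
  have hπK : algebraMap R K π ≠ 0 := by
    rw [Ne, IsFractionRing.to_map_eq_zero_iff]; exact hπR.ne_zero
  have hϖK : algebraMap S Kh ϖ ≠ 0 := by
    rw [Ne, IsFractionRing.to_map_eq_zero_iff]; exact hπ.ne_zero
  have hKK : algebraMap K Kh (algebraMap R K π) = algebraMap S Kh ϖ := by
    rw [hϖ, ← IsScalarTower.algebraMap_apply, ← IsScalarTower.algebraMap_apply]
  set e' : D := (algebraMap R K π ^ k)⁻¹ • (y : D) with he'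
  have hyD : (y : D) * (y : D) = algebraMap R K π ^ k • (y : D) := by
    have h1 := congrArg (fun z : B => (z : D)) hyy
    simp only [Subalgebra.coe_mul] at h1
    rw [h1]
    rw [← map_pow, ← map_pow, Algebra.smul_def]
    congr 1
  have hidem : e' * e' = e' := by
    rw [he', smul_mul_smul_comm, hyD, smul_smul, mul_assoc, inv_mul_cancel₀ (pow_ne_zero _ hπK),
      mul_one]
  refine ⟨e', hidem, ?_⟩
  -- compare
  have h1e : (1 : Kh) ⊗ₜ[K] e' = (algebraMap S Kh ϖ ^ k)⁻¹ • j ((1 : S) ⊗ₜ y) := by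
    rw [hj, map_one, he', TensorProduct.tmul_smul, ← algebraMap_smul Kh, map_inv₀, map_pow, hKK]
  have h2e : e = (algebraMap S Kh ϖ ^ k)⁻¹ • j t := by
    rw [ht, smul_smul, inv_mul_cancel₀ (pow_ne_zero _ hϖK), one_smul]
  have hyt : (1 : S) ⊗ₜ[R] y - t = ϖT ^ k * (ϖT * ((1 : S) ⊗ₜ[R] x - ϖT ^ (4 * k) * z)) := by
    have h3 : y = θ + algebraMap R B π ^ (k + 1) * x := by rw [← hyx]; ring
    have h4 : (1 : S) ⊗ₜ[R] (algebraMap R B π ^ (k + 1) * x) = ϖT ^ (k + 1) * (1 ⊗ₜ[R] x) := by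
      rw [← map_pow, ← Algebra.smul_def, hϖT, ← map_pow, ← Algebra.smul_def, hϖ, ← map_pow,
        TensorProduct.tmul_smul, algebraMap_smul]
    rw [h3, TensorProduct.tmul_add, hθ', h4, hN]
    ring
  have hdiff : (1 : Kh) ⊗ₜ[K] e' - e = j (ϖT * ((1 : S) ⊗ₜ[R] x - ϖT ^ (4 * k) * z)) := by
    rw [h1e]
    conv_lhs => rw [h2e]
    rw [← smul_sub, ← map_sub, hyt, hjϖ, smul_smul, inv_mul_cancel₀ (pow_ne_zero _ hϖK), one_smul]
  refine sub_eq_zero_of_idem (by rw [Algebra.TensorProduct.tmul_mul_tmul, hidem, mul_one]) he ?_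
  rw [hdiff, ← map_mul, ← map_one j, ← map_sub]
  refine IsUnit.map j ?_
  rw [mul_assoc ϖT]
  exact isUnit_one_sub_mul hT.jac _

end Main

end Groth.Agent.Etbc.H203.Idem
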