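import Groth.Agent.Etalg.HenselNewton
import Mathlib.Algebra.Polynomial.Eval.Degree
import Mathlib.Tactic.LinearCombination

/-!
# The Newton–Hensel–Tougeron lemma for henselian pairs

If `f(a) = f'(a)² b` with `b ∈ I`, `(R, I)` a henselian pair, then `f` has a root in `a + f'(a) I`.
-/

set_option autoImplicit false
universe u
open Polynomial

namespace Groth.Agent.Etbc.H203.Newton

open Groth.Agent.Etalg.HenselNewton

/-- **Newton–Hensel–Tougeron.** -/
theorem exists_root_of_sq {R : Type*} [CommRing R] {I : Ideal R} [HenselianRing R I] (f : R[X])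
    (a b : R) (hb : b ∈ I) (h : f.eval a = (f.derivative.eval a) ^ 2 * b) :
    ∃ t, b ∣ t ∧ f.eval (a + f.derivative.eval a * t) = 0 := by
  obtain ⟨t, ht, hbt⟩ := exists_root_aux (I := I) b 1 hb isUnit_one
    ((taylor a f).divX.divX.comp (C (f.derivative.eval a) * X))
  refine ⟨t, hbt, ?_⟩
  rw [eval_add_eq, h]
  rw [eval_comp, eval_mul, eval_C, eval_X] at ht
  linear_combination (f.derivative.eval a) ^ 2 * ht

/-- variant: `π ^ c` is a multiple of `f'(a)` and `f(a)` is a multiple of `π ^ (2 c + (m + 1))`; then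
there is a root congruent to `a` modulo `π ^ (m + 1)`. -/
theorem exists_root_of_dvd {R : Type*} [CommRing R] {π : R} [HenselianRing R (Ideal.span {π})]
    (f : R[X]) (a w b : R) (c m : ℕ) (hw : π ^ c = f.derivative.eval a * w)
    (h : f.eval a = π ^ (2 * c + (m + 1)) * b) :
    ∃ y, π ^ (m + 1) ∣ y - a ∧ f.eval y = 0 := by
  obtain ⟨t, ht, h0⟩ := exists_root_of_sq (I := Ideal.span {π}) f a (w ^ 2 * π ^ (m + 1) * b)
    (Ideal.mul_mem_right _ _ (Ideal.mul_mem_left _ _ (by
      rw [pow_succ]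
      exact Ideal.mul_mem_left _ _ (Ideal.mem_span_singleton_self π)))) (by
      rw [h, pow_add, mul_comm 2 c, pow_mul, hw]; ring)
  refine ⟨_, ?_, h0⟩
  rw [add_sub_cancel_left]
  refine Dvd.dvd.mul_left (dvd_trans ?_ ht) _
  exact Dvd.dvd.mul_right (Dvd.dvd.mul_left dvd_rfl _) _

end Groth.Agent.Etbc.H203.Newton
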